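import Groth.Agent.Etbc.H207.PtEval
import Groth.Agent.CurvesA.OrdMap
import Groth.Agent.CurvesA.OrdLocal
import Mathlib.RingTheory.DedekindDomain.Dvr

/-!
# The uniformizer of a discrete valuation ring as a section of `j_* G_m`

For a discrete valuation ring `R` and `Y = Spec R` there is a global section of `j_* G_m` with divisor the constant
function `1`.
-/

set_option autoImplicit false

universe u

open CategoryTheory CategoryTheory.Limits AlgebraicGeometry Opposite

namespace Groth.Agent.Etbc.H207.Uniformizer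

open Groth.Agent.CurvesA Groth.Agent.CurvesA.DivPoint Groth.Agent.CurvesA.PtFun Groth.Agent.CurvesA.OrdMap
  Groth.Agent.CurvesA.OrdLocal

variable (R : Type u) [CommRing R] [IsDomain R] [IsDiscreteValuationRing R]

/-- The only point of `Spec R` other than the generic point is the closed point. -/
theorem eq_closedPoint (y : Spec (CommRingCat.of R)) (hy : y ≠ genericPoint (Spec (CommRingCat.of R))) :
    y = IsLocalRing.closedPoint R := by
  have h1 : y.asIdeal ≠ ⊥ := by
    intro h
    apply hy
    rw [genericPoint_eq_bot_of_affine]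
    exact PrimeSpectrum.ext h
  apply PrimeSpectrum.ext
  have := y.isPrime.isMaximal h1
  exact IsLocalRing.eq_maximalIdeal this

theorem closedPoint_ne : (IsLocalRing.closedPoint R : Spec (CommRingCat.of R)) ≠
    genericPoint (Spec (CommRingCat.of R)) := by
  intro h
  rw [genericPoint_eq_bot_of_affine] at h
  have h1 : IsLocalRing.maximalIdeal R = ⊥ := congrArg PrimeSpectrum.asIdeal h
  exact IsDiscreteValuationRing.not_a_field R h1

/-- The spectrum of a discrete valuation ring is a Dedekind scheme. -/
theorem isDed : IsDed (Spec (CommRingCat.of R)) := by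
  intro x hx
  have h1 : x.asIdeal ≠ ⊥ := by
    intro h
    apply hx
    rw [genericPoint_eq_bot_of_affine]
    exact PrimeSpectrum.ext h
  have := x.isPrime
  let _ : Algebra R ((Spec (CommRingCat.of R)).presheaf.stalk x) := StructureSheaf.stalkAlgebra R x
  have : IsLocalization.AtPrime ((Spec (CommRingCat.of R)).presheaf.stalk x) x.asIdeal :=
    StructureSheaf.IsLocalization.to_stalk R x
  exact IsLocalization.AtPrime.isDiscreteValuationRing_of_dedekind_domain R h1 _

theorem eq_top_of_mem (V : (Spec (CommRingCat.of R)).Opens)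
    (h : (IsLocalRing.closedPoint R : Spec (CommRingCat.of R)) ∈ V) : V = ⊤ := by
  refine top_le_iff.1 fun y _ => ?_
  exact (IsLocalRing.specializes_closedPoint y).mem_open V.2 h

/-- **A global section of `j_* G_m` with divisor the constant function `1`.** -/
theorem exists_section (hY : IsDed (Spec (CommRingCat.of R))) :
    ∃ s : EtCoh.sect (jGm (Spec (CommRingCat.of R))) (EtCoh.top (Spec (CommRingCat.of R))),
      ((ordMap (Spec (CommRingCat.of R)) hY).hom.app (op (EtCoh.top (Spec (CommRingCat.of R))))).hom s =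
        (ULift.up (fun _ => 1) : EtCoh.sect (ptSheaf (Spec (CommRingCat.of R)) (ngp (Spec (CommRingCat.of R))))
          (EtCoh.top (Spec (CommRingCat.of R)))) := by
  let X : Scheme.{u} := Spec (CommRingCat.of R)
  let x : X := IsLocalRing.closedPoint R
  obtain ⟨V, hxV, π, hπ, -⟩ := Groth.Agent.CurvesA.Uniformizer.exists_uniformizer hY x (closedPoint_ne R)
  obtain rfl : V = ⊤ := eq_top_of_mem R V hxV
  let h : (EtCoh.top X).left ⟶ X := (EtCoh.top X).hom
  have hle : (⊤ : (EtCoh.top X).left.Opens) ≤ h ⁻¹ᵁ ⊤ := le_top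
  have hne : Nonempty (⊤ : X.Opens) := ⟨⟨x, trivial⟩⟩
  have : IsAffine (EtCoh.top X).left := inferInstanceAs (IsAffine (Spec (CommRingCat.of R)))
  have hπ0 : π ≠ 0 := by
    intro h0
    apply hπ.ne_zero
    rw [h0, map_zero]
  have hun : IsUnit ((pullback.fst h (X.fromSpecStalk (genericPoint X))).appTop (h.appLE ⊤ ⊤ hle π)) :=
    (GenFib.fractions h ⊤ (isAffineOpen_top _) ⊤ (isAffineOpen_top _) hle).2.2 π hπ0
  obtain ⟨ϖ, hϖ⟩ := hun
  have hev : ∀ w : (EtCoh.top X).left, ev h hY w
      (ϖ : Γ(pullback h (X.fromSpecStalk (genericPoint X)), ⊤)) =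
      algebraMap _ (FractionRing ((EtCoh.top X).left.presheaf.stalk w))
        (h.stalkMap w (X.presheaf.germ ⊤ (h w) (hle trivial) π)) := by
    intro w
    rw [← GenFibExact.germ_appLE h ⊤ ⊤ hle w trivial, ← ev_fst h hY w]
    exact congrArg _ hϖ
  refine ⟨ULift.up (Additive.ofMul ϖ), ?_⟩
  apply ULift.ext
  funext w
  change ord h hY w.1 w.2 (Additive.ofMul ϖ) = 1
  refine ord_of_irreducible h hY w.1 w.2 (Additive.ofMul ϖ) (X.presheaf.germ ⊤ (h w.1) (hle trivial) π) ?_
    (hev w.1)
  have hw : h w.1 = x := eq_closedPoint R _ w.2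
  have key : ∀ (y : X) (_ : y = x), Irreducible (X.presheaf.germ ⊤ y trivial π) := by
    rintro y rfl
    exact hπ
  exact key _ hw

/-- **`Z ⟶ (functions on the closed point)` is an isomorphism at the closed point.** -/
theorem isIso_pull_residue
    (c : EtCoh.const (Spec (CommRingCat.of R)) ℤ ⟶
      ptSheaf (Spec (CommRingCat.of R)) (ngp (Spec (CommRingCat.of R))))
    (hc : (c.hom.app (op (EtCoh.top (Spec (CommRingCat.of R))))).hom
      (PtEval.sec (Spec (CommRingCat.of R)) ℤ (ULift.up 1)) =
        (ULift.up (fun _ => 1) : EtCoh.sect (ptSheaf (Spec (CommRingCat.of R)) (ngp (Spec (CommRingCat.of R))))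
          (EtCoh.top (Spec (CommRingCat.of R))))) :
    IsIso ((EtCoh.pull (Spec.map (CommRingCat.ofHom (IsLocalRing.residue R)))).map c) := by
  refine PtEval.isIso_pull_map c hc _ (fun z => ?_) fun s hs s' hs' => ?_
  · have h1 : (Spec.map (CommRingCat.ofHom (IsLocalRing.residue R))) z = IsLocalRing.closedPoint R := by
      apply PrimeSpectrum.ext
      change (PrimeSpectrum.comap (IsLocalRing.residue R) z).asIdeal = IsLocalRing.maximalIdeal R
      have h2 : (z : PrimeSpectrum (IsLocalRing.ResidueField R)).asIdeal = ⊥ :=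
        (Ideal.eq_bot_or_top _).resolve_right (z : PrimeSpectrum (IsLocalRing.ResidueField R)).isPrime.ne_top
      rw [PrimeSpectrum.comap_asIdeal, h2]
      exact IsLocalRing.ker_residue
    rw [h1]
    exact closedPoint_ne R
  · rw [eq_closedPoint R s hs, eq_closedPoint R s' hs']

/-- **Uniformizer morphism**: `Z ⟶ j_* G_m` whose composite with the divisor map is an isomorphism at the closed
point. -/
theorem exists_uniformizer_hom (hY : IsDed (Spec (CommRingCat.of R))) :
    ∃ ϖ : EtCoh.const (Spec (CommRingCat.of R)) ℤ ⟶ jGm (Spec (CommRingCat.of R)),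
      IsIso ((EtCoh.pull (Spec.map (CommRingCat.ofHom (IsLocalRing.residue R)))).map
        (ϖ ≫ ordMap (Spec (CommRingCat.of R)) hY)) := by
  obtain ⟨s, hs⟩ := exists_section R hY
  refine ⟨PtEval.ofSection _ s, ?_⟩
  rw [PtEval.ofSection_comp]
  refine isIso_pull_residue R _ ?_
  rw [PtEval.ofSection_one]
  exact hs

end Groth.Agent.Etbc.H207.Uniformizer
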