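import Groth.Agent.CurvesA.PtFun
import Groth.Agent.Etcore.Stalks
import Groth.Agent.Etcore.LamTriv
import Groth.Agent.Etbase.OverStalk
import Groth.Agent.Etbase.StalkPull
import Groth.Agent.EtpbcA.Germ
import Groth.Agent.Desc.LQF
import Groth.Prelude.Def_EtCore

/-!
# The constant sheaf `Z` and the sheaf of functions on the points over a set `S`

For a point `x ∈ S` which is the only point of `S`, a morphism `c : Z ⟶ ptSheaf X S` with `c 1 = 1` is an isomorphism
on the stalks at the geometric points over `x`.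
-/

set_option autoImplicit false

universe u

open CategoryTheory CategoryTheory.Limits AlgebraicGeometry Opposite

namespace Groth.Agent.Etbc.H207.PtEval

open Groth.Agent.CurvesA.PtFun Groth.Agent.EtpbcA.Germ

variable {X : Scheme.{u}}

/-- An étale `X`-scheme has discrete fibres. -/
theorem exists_isolating (U : X.Etale) (y : U.left) :
    ∃ W : U.left.Opens, y ∈ W ∧ ∀ z : U.left, z ∈ W → U.hom z = U.hom y → z = y := by
  have h1 : AlgebraicGeometry.Etale U.hom := U.prop
  have h2 : LocallyQuasiFinite U.hom := Groth.Agent.Desc.LQF.of_etale U.hom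
  have h3 : DiscreteTopology ↥(U.hom ⁻¹' {U.hom y}) := (U.hom.isDiscrete_preimage_singleton (U.hom y)).1
  have h4 : IsOpen ({⟨y, rfl⟩} : Set ↥(U.hom ⁻¹' {U.hom y})) := isOpen_discrete _
  obtain ⟨W, hW, hW'⟩ := isOpen_induced_iff.1 h4
  refine ⟨⟨W, hW⟩, ?_, ?_⟩
  · have h5 : (⟨y, rfl⟩ : ↥(U.hom ⁻¹' {U.hom y})) ∈ Subtype.val ⁻¹' W := by
      rw [hW']
      rfl
    exact h5
  · intro z hz hzy
    have h5 : (⟨z, hzy⟩ : ↥(U.hom ⁻¹' {U.hom y})) ∈ Subtype.val ⁻¹' W := hz
    rw [hW'] at h5
    exact congrArg Subtype.val h5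

/-- The unit of the constant sheaf adjunction is the sheafification map. -/
theorem constAdj_unit (X : Scheme.{u}) (M : AddCommGrpCat.{u + 1}) :
    (EtCore.constAdj X).unit.app M = (toSheafify X.smallEtaleTopology
        ((Functor.const X.Etaleᵒᵖ).obj M)).app (op (EtCoh.top X)) := by
  unfold EtCore.constAdj constantSheafAdj
  rw [Adjunction.comp_unit_app]
  exact Category.id_comp _

/-- The section of the constant sheaf `M` given by an element of `M`. -/
noncomputable def sec (X : Scheme.{u}) (M : Type) [AddCommGroup M] :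
    ULift.{u + 1} M →+ EtCoh.sect (EtCoh.const X M) (EtCoh.top X) :=
  ((EtCore.constAdj X).unit.app (AddCommGrpCat.of (ULift.{u + 1} M))).hom

/-- The constants are the stalks of a constant sheaf. -/
theorem bijective_germ_sec (X : Scheme.{u}) (M : Type) [AddCommGroup M]
    {Ω : Type u} [Field Ω] [IsSepClosed Ω] (ξ : Spec (CommRingCat.of Ω) ⟶ X)
    (t : Fib ξ (EtCoh.top X)) :
    Function.Bijective (fun m : ULift.{u + 1} M => germ ξ (EtCoh.const X M) t (sec X M m)) := by
  let Φ := Scheme.pointSmallEtale ξ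
  let A : AddCommGrpCat.{u + 1} := AddCommGrpCat.of (ULift.{u + 1} M)
  let P : X.Etaleᵒᵖ ⥤ AddCommGrpCat.{u + 1} := (Functor.const X.Etaleᵒᵖ).obj A
  have h1 : IsIso (Φ.presheafFiber.map (toSheafify X.smallEtaleTopology P)) :=
    Φ.W_isInvertedBy_presheafFiber' _ (GrothendieckTopology.W_toSheafify _ P)
  have h2 := Groth.Agent.Etcore.LamTriv.toPresheafFiber_constIso_hom Φ A t
  have h3 : IsIso (Φ.toPresheafFiber (EtCoh.top X) t P) := by
    have : IsIso (Φ.toPresheafFiber (EtCoh.top X) t P ≫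
        (Groth.Agent.Etbase.OverStalk.presheafFiberConstIso Φ A).hom) := by
      rw [h2]
      exact inferInstanceAs (IsIso (𝟙 A))
    exact IsIso.of_isIso_comp_right _ (Groth.Agent.Etbase.OverStalk.presheafFiberConstIso Φ A).hom
  have h4 := Φ.toPresheafFiber_naturality (toSheafify X.smallEtaleTopology P) (EtCoh.top X) t
  have h5 : IsIso ((toSheafify X.smallEtaleTopology P).app (op (EtCoh.top X)) ≫
      Φ.toPresheafFiber (EtCoh.top X) t (sheafify X.smallEtaleTopology P)) := by
    rw [← h4]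
    infer_instance
  have h6 := ConcreteCategory.bijective_of_isIso ((toSheafify X.smallEtaleTopology P).app
    (op (EtCoh.top X)) ≫ Φ.toPresheafFiber (EtCoh.top X) t (sheafify X.smallEtaleTopology P))
  unfold sec
  rw [constAdj_unit]
  exact h6

variable {S : Set X}

/-- The constant function. -/
noncomputable def cst (S : Set X) (U : X.Etale) (m : ℤ) : EtCoh.sect (ptSheaf X S) U := ULift.up fun _ => m

theorem cst_add (U : X.Etale) (m n : ℤ) : cst S U (m + n) = cst S U m + cst S U n := rfl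

theorem map_cst {U V : X.Etale} (g : V ⟶ U) (m : ℤ) : (ptSheaf X S).obj.map g.op (cst S U m) = cst S V m := rfl

/-- The constants as a homomorphism. -/
noncomputable def cstHom (S : Set X) (U : X.Etale) : ℤ →+ EtCoh.sect (ptSheaf X S) U where
  toFun := cst S U
  map_zero' := rfl
  map_add' := cst_add U

variable (c : EtCoh.const X ℤ ⟶ ptSheaf X S)
  (hc : (c.hom.app (op (EtCoh.top X))).hom (sec X ℤ (ULift.up 1)) = cst S (EtCoh.top X) 1)

include hc in
theorem app_sec (m : ULift.{u + 1} ℤ) :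
    (c.hom.app (op (EtCoh.top X))).hom (sec X ℤ m) = cst S (EtCoh.top X) m.down := by
  have h1 : m = m.down • (ULift.up 1 : ULift.{u + 1} ℤ) := by
    apply ULift.ext
    simp
  have h2 : cst S (EtCoh.top X) m.down = m.down • cst S (EtCoh.top X) 1 := by
    have := map_zsmul (cstHom S (EtCoh.top X)) m.down 1
    rw [smul_eq_mul, mul_one] at this
    exact this
  rw [h2, ← hc]
  conv_lhs => rw [h1]
  rw [map_zsmul, map_zsmul]

include hc in
/-- **`Z ⟶ (functions on the points over `x`)` is an isomorphism on stalks over `x`.** -/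
theorem bijective_stalk_map {Ω : Type u} [Field Ω] [IsSepClosed Ω] (ξ : Spec (CommRingCat.of Ω) ⟶ X)
    (hξ : ξ default ∈ S) (hS : ∀ s ∈ S, s = ξ default) :
    Function.Bijective ((EtCoh.stalk ξ).map c) := by
  let t : Fib ξ (EtCoh.top X) := Over.homMk ξ (Category.comp_id _)
  have ht : ∀ t' : Fib ξ (EtCoh.top X), t' = t := by
    intro t'
    apply Over.OverMorphism.ext
    have h1 := Over.w t'
    have h2 := Over.w t
    exact ((Category.comp_id _).symm.trans h1).trans (h2.symm.trans (Category.comp_id _))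
  have h1 := bijective_germ_sec X ℤ ξ t
  rw [← Function.Bijective.of_comp_iff _ h1]
  have h2 : (fun p => (EtCoh.stalk ξ).map c p) ∘
      (fun m : ULift.{u + 1} ℤ => germ ξ (EtCoh.const X ℤ) t (sec X ℤ m)) =
      fun m => germ ξ (ptSheaf X S) t (cst S (EtCoh.top X) m.down) := by
    funext m
    have h3 := germ_map ξ c t (sec X ℤ m)
    rw [← app_sec c hc m]
    exact h3
  refine (congrArg Function.Bijective h2).mpr ⟨?_, ?_⟩
  · intro m m' hm
    obtain ⟨V, g, v, -, hv'⟩ := (germ_eq_iff ξ (ptSheaf X S) t _ _).1 hm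
    have h3 : V.hom (pt ξ v) ∈ S := by
      rw [hom_pt]
      exact hξ
    exact ULift.ext _ _ (congrFun (congrArg ULift.down hv') (⟨pt ξ v, h3⟩ : Pts X S V))
  · intro p
    obtain ⟨U, u, s, rfl⟩ := germ_surj ξ (ptSheaf X S) p
    obtain ⟨W, hyW, hW⟩ := exists_isolating U (pt ξ u)
    let V : X.Etale := Scheme.Etale.mk (W.ι ≫ U.hom)
    let g : V ⟶ U := MorphismProperty.Over.homMk W.ι rfl trivial
    obtain ⟨v, hv, -⟩ := exists_lift ξ g u (⟨pt ξ u, hyW⟩ : W) rfl
    have h3 : U.hom (pt ξ u) ∈ S := by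
      rw [hom_pt]
      exact hξ
    let n : ℤ := s.down ⟨pt ξ u, h3⟩
    refine ⟨ULift.up n, ?_⟩
    let τ : V ⟶ EtCoh.top X := (EtCore.topIsTerminal X).from V
    have h4 : fmap ξ τ v = t := ht _
    change germ ξ (ptSheaf X S) t (cst S (EtCoh.top X) n) = germ ξ (ptSheaf X S) u s
    rw [← h4, ← hv, ← germ_res, ← germ_res]
    congr 1
    apply ULift.ext
    funext z
    change n = s.down (Pts.map g z)
    have h5 : Pts.map g z = ⟨pt ξ u, h3⟩ := by
      apply Subtype.ext
      refine hW _ z.1.2 ?_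
      have h6 := hS _ (Pts.map g z).2
      rw [hom_pt]
      exact h6
    rw [h5]

include hc in
/-- The stalk version on the pullback along a morphism with image in `S`. -/
theorem isIso_pull_map {Z : Scheme.{u}} (i : Z ⟶ X) (hi : ∀ z : Z, i z ∈ S)
    (hS : ∀ s ∈ S, ∀ s' ∈ S, s = s') : IsIso ((EtCoh.pull i).map c) := by
  refine Groth.Agent.Etcore.Stalks.isIso_of_stalks _ fun z => ?_
  obtain ⟨Ω, _, _, ξ, hξ⟩ := Groth.Agent.Etcore.Stalks.exists_geom z
  refine ⟨Ω, inferInstance, inferInstance, ξ, hξ, ?_⟩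
  have h1 : IsIso ((EtCoh.stalk (ξ ≫ i)).map c) := by
    rw [ConcreteCategory.isIso_iff_bijective]
    refine bijective_stalk_map c hc (ξ ≫ i) (hi _) fun s hs => hS _ hs _ (hi _)
  have h2 := (NatIso.isIso_map_iff (Groth.Agent.Etbase.StalkPull.stalkPullIso i ξ) c).1 h1
  exact h2

section ofSection

variable {F G : EtCoh.Ab X}

/-- The homomorphism `Z ⟶ A` with `1 ↦ a`. -/
noncomputable def zHom {A : Type (u + 1)} [AddCommGroup A] (a : A) : ULift.{u + 1} ℤ →+ A :=
  (zmultiplesHom A a).comp AddEquiv.ulift.toAddMonoidHom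

theorem zHom_apply {A : Type (u + 1)} [AddCommGroup A] (a : A) (m : ULift.{u + 1} ℤ) :
    zHom a m = m.down • a := rfl

/-- The morphism `Z ⟶ F` given by a global section of `F`. -/
noncomputable def ofSection (F : EtCoh.Ab X) (s : EtCoh.sect F (EtCoh.top X)) : EtCoh.const X ℤ ⟶ F :=
  ((EtCore.constAdj X).homEquiv (AddCommGrpCat.of (ULift.{u + 1} ℤ)) F).symm (AddCommGrpCat.ofHom (zHom s))

theorem unit_ofSection (s : EtCoh.sect F (EtCoh.top X)) :
    (EtCore.constAdj X).unit.app (AddCommGrpCat.of (ULift.{u + 1} ℤ)) ≫ (EtCore.gsec X).map (ofSection F s) =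
      AddCommGrpCat.ofHom (zHom s) := by
  have h := (EtCore.constAdj X).homEquiv_unit (f := ofSection F s)
  rw [← h]
  exact ((EtCore.constAdj X).homEquiv _ F).apply_symm_apply _

theorem ofSection_app (s : EtCoh.sect F (EtCoh.top X)) (m : ULift.{u + 1} ℤ) :
    ((ofSection F s).hom.app (op (EtCoh.top X))).hom (sec X ℤ m) = m.down • s :=
  ConcreteCategory.congr_hom (unit_ofSection s) m

theorem ofSection_one (s : EtCoh.sect F (EtCoh.top X)) :
    ((ofSection F s).hom.app (op (EtCoh.top X))).hom (sec X ℤ (ULift.up 1)) = s := by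
  rw [ofSection_app]
  exact one_zsmul s

/-- Morphisms from `Z` are determined by the image of `1`. -/
theorem hom_ext {φ ψ : EtCoh.const X ℤ ⟶ F}
    (h : (φ.hom.app (op (EtCoh.top X))).hom (sec X ℤ (ULift.up 1)) =
      (ψ.hom.app (op (EtCoh.top X))).hom (sec X ℤ (ULift.up 1))) : φ = ψ := by
  apply ((EtCore.constAdj X).homEquiv (AddCommGrpCat.of (ULift.{u + 1} ℤ)) F).injective
  rw [Adjunction.homEquiv_unit, Adjunction.homEquiv_unit]
  ext m
  have h1 : m = m.down • (ULift.up 1 : ULift.{u + 1} ℤ) := by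
    apply ULift.ext
    simp
  change (φ.hom.app (op (EtCoh.top X))).hom (sec X ℤ m) = (ψ.hom.app (op (EtCoh.top X))).hom (sec X ℤ m)
  rw [h1, map_zsmul, map_zsmul, map_zsmul, h]

theorem ofSection_comp (s : EtCoh.sect F (EtCoh.top X)) (φ : F ⟶ G) :
    ofSection F s ≫ φ = ofSection G ((φ.hom.app (op (EtCoh.top X))).hom s) := by
  apply hom_ext
  rw [ofSection_one]
  change (φ.hom.app (op (EtCoh.top X))).hom (((ofSection F s).hom.app (op (EtCoh.top X))).hom _) = _
  rw [ofSection_one]

end ofSection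

end Groth.Agent.Etbc.H207.PtEval
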